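import Mathlib

/-!
# Involutions in extraspecial 2-groups (helper828)

* `card_sq_le`: a group `E` of order `2 ^ 13` with `x * x`, `[x, y]` in `{1, z}` and centre `{1, z}` has at most
  `2 ^ 12 + 2 ^ 6 = 4160` elements with `x * x = 1`;
* `sum_le`, `num`: the bounds for the sum of a character over `E` wanted for the elements 3A of the Monster.
-/

set_option autoImplicit false

namespace Cfsg.Agent.H828.TC.ExSq

open Finset

variable {E : Type*} [Group E]

open scoped Classical in
/-- the sign of the square -/
noncomputable def f (x : E) : ℤ := if x * x = 1 then 1 else -1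

open scoped Classical in
/-- the sign of the commutator -/
noncomputable def e (x y : E) : ℤ := if x * y = y * x then 1 else -1

section

variable {z : E} (hz : z ≠ 1) (hsq : ∀ x : E, x * x = 1 ∨ x * x = z)
  (hcm : ∀ x y : E, x * y = y * x ∨ x * y = z * (y * x))

include hsq hz in
theorem zz : z * z = 1 := by
  rcases hsq z with h | h
  · exact h
  · exact absurd (mul_eq_left.1 h) hz

include hcm hz in
theorem z_comm (x : E) : z * x = x * z := by
  rcases hcm z x with h | h
  · exact h
  · exfalso
    have h2 : x = x * z := mul_left_cancel h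
    exact hz (mul_eq_left.1 h2.symm)

open scoped Classical in
theorem e_eq {x y c : E} (h : x * y = c * (y * x)) : e x y = if c = 1 then 1 else -1 := by
  unfold e
  have : (x * y = y * x) ↔ c = 1 := by rw [h, mul_eq_right]
  simp only [this]

include hcm in
theorem exists_c (x y : E) : ∃ c : E, (c = 1 ∨ c = z) ∧ x * y = c * (y * x) := by
  rcases hcm x y with h | h
  · exact ⟨1, Or.inl rfl, by rw [one_mul]; exact h⟩
  · exact ⟨z, Or.inr rfl, h⟩

include hz hsq hcm in
theorem f_mul (x y : E) : f (x * y) = f x * f y * e x y := by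
  classical
  have hzz := zz hz hsq
  have hzc := z_comm hz hcm
  obtain ⟨c, hc, hxy⟩ := exists_c hcm x y
  have hcc : ∀ w : E, c * w = w * c := by
    intro w
    rcases hc with rfl | rfl
    · simp
    · exact hzc w
  have hc2 : c * c = 1 := by
    rcases hc with rfl | rfl
    · simp
    · exact hzz
  have h2 : x * y * (x * y) = (x * x) * (y * y) * c := by
    have h3 : y * x = c * (x * y) := by
      rw [hxy, ← mul_assoc, hc2, one_mul]
    calc x * y * (x * y) = x * (y * x) * y := by group
      _ = x * (c * (x * y)) * y := by rw [h3]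
      _ = (x * c) * (x * y) * y := by group
      _ = (c * x) * (x * y) * y := by rw [hcc]
      _ = c * ((x * x) * (y * y)) := by group
      _ = (x * x) * (y * y) * c := hcc _
  rw [e_eq hxy]
  unfold f
  rw [h2]
  rcases hsq x with hx | hx <;> rcases hsq y with hy | hy <;> rcases hc with hc' | hc' <;>
    simp [hx, hy, hc', hz, hzz]

theorem e_inv_mul (x w : E) : e x (x⁻¹ * w) = e x w := by
  classical
  unfold e
  have : (x * (x⁻¹ * w) = x⁻¹ * w * x) ↔ (x * w = w * x) := by
    constructor
    · intro h
      have h1 : w = x⁻¹ * w * x := by rw [← h]; group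
      calc x * w = x * (x⁻¹ * w * x) := by rw [← h1]
        _ = w * x := by group
    · intro h
      calc x * (x⁻¹ * w) = x⁻¹ * (x * w) := by group
        _ = x⁻¹ * (w * x) := by rw [h]
        _ = x⁻¹ * w * x := by group
  simp only [this]

theorem e_sq (x y : E) : e x y * e x y = 1 := by
  unfold e
  split_ifs <;> simp

include hz hsq hcm in
/-- the commutator sign is multiplicative in the first argument -/
theorem e_mul (x y w : E) : e (x * y) w = e x w * e y w := by
  classical
  have hzz := zz hz hsq
  have hzc := z_comm hz hcm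
  obtain ⟨c, hc, hx⟩ := exists_c hcm x w
  obtain ⟨d, hd, hy⟩ := exists_c hcm y w
  have hdx : d * x = x * d := by
    rcases hd with rfl | rfl
    · simp
    · exact hzc x
  have hdc : ∀ u : E, d * u = u * d := by
    intro u
    rcases hd with rfl | rfl
    · simp
    · exact hzc u
  have h : x * y * w = (c * d) * (w * (x * y)) := by
    calc x * y * w = x * (y * w) := by group
      _ = x * (d * (w * y)) := by rw [hy]
      _ = (x * d) * (w * y) := by group
      _ = (d * x) * (w * y) := by rw [hdx]
      _ = d * (x * w) * y := by group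
      _ = d * (c * (w * x)) * y := by rw [hx]
      _ = (d * c) * (w * (x * y)) := by group
      _ = (c * d) * (w * (x * y)) := by rw [hdc c]
  rw [e_eq h, e_eq hx, e_eq hy]
  rcases hc with hc' | hc' <;> rcases hd with hd' | hd' <;> simp [hc', hd', hz, hzz]

include hz hsq hcm in
theorem sum_e [Fintype E] {w : E} (hw : ∃ y, w * y ≠ y * w) : ∑ x : E, e x w = 0 := by
  classical
  obtain ⟨y, hy⟩ := hw
  have h1 : e y w = -1 := by
    unfold e
    rw [if_neg (fun h => hy h.symm)]
  have h2 : ∑ x : E, e x w = ∑ x : E, e (x * y) w :=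
    (Fintype.sum_equiv (Equiv.mulRight y) _ _ (fun x => rfl)).symm
  have h3 : ∑ x : E, e (x * y) w = -∑ x : E, e x w := by
    rw [← Finset.sum_neg_distrib]
    refine Finset.sum_congr rfl fun x _ => ?_
    rw [e_mul hz hsq hcm, h1]
    ring
  linarith

theorem sum_e_central [Fintype E] {w : E} (hw : ∀ y, w * y = y * w) : ∑ x : E, e x w = Fintype.card E := by
  classical
  have : ∀ x : E, e x w = 1 := by
    intro x
    unfold e
    rw [if_pos (hw x).symm]
  simp [this]

include hz hsq hcm in
theorem sq_sum [Fintype E] (hZ : ∀ x : E, (∀ y, x * y = y * x) → x = 1 ∨ x = z) :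
    (∑ x : E, f x) ^ 2 = 2 * Fintype.card E := by
  classical
  have hzz := zz hz hsq
  have hzc := z_comm hz hcm
  have h1 : (∑ x : E, f x) ^ 2 = ∑ w : E, f w * ∑ x : E, e x w := by
    rw [pow_two, Finset.sum_mul_sum]
    have h2 : ∀ x : E, ∑ y : E, f x * f y = ∑ w : E, f w * e x w := by
      intro x
      rw [← Fintype.sum_equiv (Equiv.mulLeft x) (fun y => f (x * y) * e x (x * y)) (fun w => f w * e x w)
        (fun y => rfl)]
      refine Finset.sum_congr rfl fun y _ => ?_
      have h3 : e x (x * y) = e x y := by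
        have := e_inv_mul x (x * y)
        rw [inv_mul_cancel_left] at this
        exact this.symm
      rw [h3, f_mul hz hsq hcm x y, mul_assoc, e_sq, mul_one]
    simp_rw [h2]
    rw [Finset.sum_comm]
    simp_rw [Finset.mul_sum]
  rw [h1]
  have h4 : ∀ w : E, f w * ∑ x : E, e x w = if w = 1 ∨ w = z then (Fintype.card E : ℤ) else 0 := by
    intro w
    split_ifs with h
    · have hc : ∀ y, w * y = y * w := by
        intro y
        rcases h with rfl | rfl
        · simp
        · exact hzc y
      have hf : f w = 1 := by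
        unfold f
        rcases h with rfl | rfl
        · simp
        · simp [hzz]
      rw [hf, sum_e_central hc, one_mul]
    · have : ∃ y, w * y ≠ y * w := by
        by_contra hcon
        push Not at hcon
        exact h (hZ w hcon)
      rw [sum_e hz hsq hcm this, mul_zero]
  rw [Finset.sum_congr rfl (fun w _ => h4 w), ← Finset.sum_filter, Finset.sum_const, nsmul_eq_mul]
  have h5 : (Finset.univ.filter fun w : E => w = 1 ∨ w = z) = {1, z} := by
    ext w
    simp
  rw [h5, Finset.card_pair hz.symm]
  norm_num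

include hz hsq hcm in
/-- **An extraspecial group of order `2 ^ 13` has at most 4160 elements with `x * x = 1`.** -/
theorem card_sq_le [Finite E] (hZ : ∀ x : E, (∀ y, x * y = y * x) → x = 1 ∨ x = z) (hcard : Nat.card E = 2 ^ 13) :
    Nat.card {x : E // x * x = 1} ≤ 4160 := by
  classical
  have := Fintype.ofFinite E
  have h1 := sq_sum hz hsq hcm hZ
  rw [← Nat.card_eq_fintype_card, hcard] at h1
  have h2 : ∑ x : E, f x = (Nat.card {x : E // x * x = 1} : ℤ) - (Nat.card {x : E // ¬ x * x = 1} : ℤ) := by
    have h3 : ∀ x : E, f x = (if x * x = 1 then (1 : ℤ) else 0) - (if ¬ x * x = 1 then (1 : ℤ) else 0) := by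
      intro x
      unfold f
      split_ifs <;> simp_all
    simp_rw [h3]
    rw [Finset.sum_sub_distrib, Finset.sum_boole, Finset.sum_boole, Nat.card_eq_fintype_card, Fintype.card_subtype,
      Nat.card_eq_fintype_card, Fintype.card_subtype]
  have h3 : Nat.card {x : E // x * x = 1} + Nat.card {x : E // ¬ x * x = 1} = 2 ^ 13 := by
    rw [← hcard, ← Nat.card_sum, Nat.card_congr (Equiv.sumCompl fun x : E => x * x = 1)]
  rw [h2] at h1
  set a := Nat.card {x : E // x * x = 1}
  set b := Nat.card {x : E // ¬ x * x = 1}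
  by_contra hcon
  push Not at hcon
  have h4 : (128 : ℤ) < (a : ℤ) - b := by omega
  have h5 : ((a : ℤ) - b) ^ 2 = 16384 := by
    rw [h1]
    norm_num
  nlinarith

end

section

variable {z : E}

open scoped Classical in
/-- the bound for the sum of `f` over `E`, from the number of the elements with `x * x = 1` -/
theorem sum_le_of [Fintype E] (hz : z ≠ 1) (hzz : z * z = 1) (hcard : Nat.card E = 2 ^ 13)
    (hsq : Nat.card {x : E // x * x = 1} ≤ 4160) (g : E → ℝ) {d : ℝ} (hd : 0 ≤ d) (h1 : g 1 ≤ d)
    (hgz : g z ≤ 49 / 2000 * d) (h2 : ∀ x, x ≠ 1 → x ≠ z → x * x = 1 → g x ≤ 56 / 1250 * d)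
    (h4 : ∀ x, x * x ≠ 1 → g x ≤ 247 / 10000 * d) : ∑ x, g x ≤ 2869 / 10 * d := by
  have key : ∀ x : E, g x ≤ (if x = 1 then (1 - 56 / 1250) * d else 0) + (if x = z then (49 / 2000 - 56 / 1250) * d else 0) +
      (if x * x = 1 then (56 / 1250 - 247 / 10000) * d else 0) + 247 / 10000 * d := by
    intro x
    by_cases hx1 : x = 1
    · subst hx1
      rw [if_pos rfl, if_neg hz.symm, if_pos (mul_one 1)]
      linarith
    · by_cases hxz : x = z
      · subst hxz
        rw [if_neg hz, if_pos rfl, if_pos hzz]
        linarith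
      · rw [if_neg hx1, if_neg hxz]
        by_cases hxx : x * x = 1
        · rw [if_pos hxx]
          have := h2 x hx1 hxz hxx
          linarith
        · rw [if_neg hxx]
          have := h4 x hxx
          linarith
  have h5 := Finset.sum_le_sum fun x (_ : x ∈ (Finset.univ : Finset E)) => key x
  rw [Finset.sum_add_distrib, Finset.sum_add_distrib, Finset.sum_add_distrib, Finset.sum_ite_eq', Finset.sum_ite_eq',
    ← Finset.sum_filter, Finset.sum_const, Finset.sum_const, ← Fintype.card_subtype, ← Nat.card_eq_fintype_card,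
    Finset.card_univ, ← Nat.card_eq_fintype_card, hcard] at h5
  simp only [Finset.mem_univ, if_true, nsmul_eq_mul] at h5
  have h6 : (Nat.card {x : E // x * x = 1} : ℝ) ≤ 4160 := by exact_mod_cast hsq
  have h7 : (Nat.card {x : E // x * x = 1} : ℝ) * ((56 / 1250 - 247 / 10000) * d) ≤
      4160 * ((56 / 1250 - 247 / 10000) * d) := by
    apply mul_le_mul_of_nonneg_right h6
    apply mul_nonneg _ hd
    norm_num
  push_cast at h5
  linarith

/-- **The bound for the sum of `f` over an extraspecial group of order `2 ^ 13`.** -/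
theorem sum_le [Fintype E] (hz : z ≠ 1) (hsq : ∀ x : E, x * x = 1 ∨ x * x = z)
    (hcm : ∀ x y : E, x * y = y * x ∨ x * y = z * (y * x)) (hZ : ∀ x : E, (∀ y, x * y = y * x) → x = 1 ∨ x = z)
    (hcard : Nat.card E = 2 ^ 13) (g : E → ℝ) {d : ℝ} (hd : 0 ≤ d) (h1 : g 1 ≤ d) (hgz : g z ≤ 49 / 2000 * d)
    (h2 : ∀ x, x ≠ 1 → x ≠ z → x * x = 1 → g x ≤ 56 / 1250 * d) (h4 : ∀ x, x * x ≠ 1 → g x ≤ 247 / 10000 * d) :
    ∑ x, g x ≤ 2869 / 10 * d :=
  sum_le_of hz (zz hz hsq) hcard (card_sq_le hz hsq hcm hZ hcard) g hd h1 hgz h2 h4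

/-- the numerical condition -/
theorem num {d F G : ℝ} (hd : 0 < d) (hF : 8192 * F ≤ 2869 / 10 * d) (hG : 128 * G ≤ 401 / 400 * d) :
    44 * F + 58 * G < 2 * d := by
  linarith

end

end Cfsg.Agent.H828.TC.ExSq
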